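import Cfsg.Agent.Lib.Chev.TwMult.E6.Weights

/-!
²E₆(q), `3 ≤ q`: no stem extension has kernel of order the characteristic, so every kernel divides `gcd(3, q + 1)`.
-/

set_option autoImplicit false
set_option linter.unusedSectionVars false
set_option maxRecDepth 100000

namespace Cfsg.Lib.Chev.TwMult.E6

open Cfsg.Lie Cfsg.Lib.Chev.MultW
open scoped commutatorElement MatrixGroups

universe u

variable {K : Type u} [Field K]

theorem lcomm_conj {G Γ : Type u} [Group G] [Group Γ] {σ : Γ →* G} (hs : Function.Surjective σ) {x y : G}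
    (h : LComm σ x y) (g : G) : LComm σ (g * x * g⁻¹) (g * y * g⁻¹) := by
  intro A B hA hB
  obtain ⟨N, hN⟩ := hs g
  have h1 := h (N⁻¹ * A * N) (N⁻¹ * B * N)
    (by rw [map_mul, map_mul, map_inv, hN, hA]; group) (by rw [map_mul, map_mul, map_inv, hN, hB]; group)
  calc A * B = N * (N⁻¹ * A * N * (N⁻¹ * B * N)) * N⁻¹ := by group
    _ = N * (N⁻¹ * B * N * (N⁻¹ * A * N)) * N⁻¹ := by rw [h1]
    _ = B * A := by group

variable [Fintype K] {q : ℕ} (f : K →+* K) (hk : ∀ t, f^[2] t = t) (hf : ∀ t, f t = t ^ q)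
  (hK : Fintype.card K = q ^ 2) (h3 : 3 ≤ q)

include hk in
theorem f_trace (v : K) : f (v + f v) = v + f v := by
  rw [map_add, show f (f v) = v from hk v, add_comm]

include hk hf hK h3 in
theorem trace_surj {c : K} (hc : f c = c) : ∃ v, v + f v = c := by
  obtain ⟨w, hw⟩ : ∃ w, w + f w ≠ 0 := by
    by_contra hall
    push Not at hall
    have h1 : (1 : K) + 1 = 0 := by simpa using hall 1
    have hfix : ∀ v : K, v ^ (q ^ 1) = v := fun v => by
      rw [pow_one, ← hf]
      have := hall v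
      have h2 : v + v = 0 := by rw [← two_mul, ← one_add_one_eq_two, h1, zero_mul]
      rw [← h2] at this
      exact add_left_cancel this
    have hc := card_fixed_field (K := K) (q := q) (k := 2) (j := 1) (by omega)
      (by rw [Nat.card_eq_fintype_card, hK]) (one_dvd 2)
    rw [Nat.card_congr (Equiv.subtypeUnivEquiv hfix), Nat.card_eq_fintype_card, hK, pow_one, sq] at hc
    nlinarith
  refine ⟨c / (w + f w) * w, ?_⟩
  rw [map_mul, map_div₀, hc, f_trace f hk w, ← mul_add, div_mul_cancel₀ _ hw]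

/-- The projection onto the field of an orbit. -/
noncomputable def projFun (J : ℕ) : K →+ K :=
  if (twE6.orb J).length = 1 then AddMonoidHom.id K + f.toAddMonoidHom else AddMonoidHom.id K

/-- The projections onto the orbit fields. -/
noncomputable def projE6 (hf : ∀ t, f t = t ^ q) (hK : Fintype.card K = q ^ 2) (h3 : 3 ≤ q) :
    (e6STw f hk).Proj where
  prj J := projFun f J.val
  mem J v := by
    show f^[(twE6.orb J.val).length] (projFun f J.val v) = projFun f J.val v
    rcases twSimplyE6.orb_len J J.2 with e | e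
    · rw [projFun, if_pos e, e, Function.iterate_one]
      exact f_trace f hk v
    · rw [e]; exact hk _
  surj J c hc := by
    change f^[(twE6.orb J.val).length] c = c at hc
    by_cases e : (twE6.orb J.val).length = 1
    · rw [e, Function.iterate_one] at hc
      obtain ⟨v, hv⟩ := trace_surj f hk hf hK h3 hc
      exact ⟨v, by rw [projFun, if_pos e]; exact hv⟩
    · exact ⟨c, by rw [projFun, if_neg e]; rfl⟩
  smul J c hc v := by
    change f^[(twE6.orb J.val).length] c = c at hc
    by_cases e : (twE6.orb J.val).length = 1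
    · rw [e, Function.iterate_one] at hc
      simp only [projFun, if_pos e, AddMonoidHom.add_apply, AddMonoidHom.id_apply]
      show c * v + f (c * v) = c * (v + f v)
      rw [map_mul, hc, mul_add]
    · simp only [projFun, if_neg e, AddMonoidHom.id_apply]

theorem rts_long : rts 19 = [47] ∧ rts 22 = [39] ∧ rts 23 = [46] := by decide +kernel

theorem long_data : chkTerms tblE6 [39] [47] [] = true ∧ chkTerms tblE6 [46] [47] [] = true ∧
    tTerms tblE6 39 46 = [(47, 1, 1, 1)] ∧ symE6_1.eps 47 = 1 ∧ symE6_1.root 47 = 47 ∧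
    chkTerms tblE6 [46] [47] [] = true ∧ twE6.base 2 = [39] ∧ twE6.base 3 = [46] ∧
    (twE6.orb 2).length = 1 ∧ (twE6.orb 3).length = 1 ∧
    wperm tblE6 (twE6.lw 3) 39 = 47 ∧ wperm tblE6 (twE6.lw 2) 46 = 47 ∧
    (39 : ℕ) ≠ 46 ∧ tblE6.neg 39 ≠ 46 := by decide +kernel

theorem rootClosure_nil {D : ChevalleyDatum} {T : Tbl} (C : Cert D T) :
    rootClosure C K ([] : List ℕ) = ⊥ := by
  rw [rootClosure, show {g : GL D.Idx K | ∃ r ∈ ([] : List ℕ), ∃ t : K, g = xg C r t} = ∅ from
    Set.eq_empty_iff_forall_notMem.2 fun g ⟨r, hr, _⟩ => absurd hr List.not_mem_nil, Subgroup.closure_empty]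

include hf hK h3 in
/-- The classes commute with themselves in every central extension. -/
theorem self_lcomm (p : ℕ) [Fact p.Prime] [CharP K p] {Γ : Type u} [Group Γ] {σ : Γ →* ↥(e6STw f hk).grp}
    (hs : Function.Surjective σ) (hc : σ.ker ≤ Subgroup.center Γ) :
    ∀ j < 24, ∀ a b, LComm σ ((e6STw f hk).xcl (projE6 f hk hf hK h3) orderE6 j a)
      ((e6STw f hk).xcl (projE6 f hk hf hK h3) orderE6 j b) := by
  let X := e6STw f hk
  let P := projE6 f hk hf hK h3
  let x := X.xcl P orderE6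
  obtain ⟨r19, r22, r23⟩ := rts_long
  obtain ⟨c39, c46, hterms, e47, root47, -, b2, b3, l2, l3, w39, w46, hne, hne'⟩ := long_data
  have hN : ∀ j, j < 24 → j < orderE6.N := fun j h => h
  have hmem : ∀ j, j < 24 → ∀ v, (x j v : GL chevE6.Idx K) ∈ rootClosure certE6C K (rts j) := fun j h v =>
    X.xcl_mem_closure P orderE6 (hN j h) v
  have hw : ∀ (j : ℕ), j < 24 → ∀ Y : K → ↥X.grp, ∀ a a', ∃ w, (∀ b, LComm σ w (Y b)) ∧
      x j (a + a') = x j a * x j a' * w := fun j h Y a a' =>
    ⟨1, fun b => lcomm_symm (lcomm_one hs hc _), by rw [mul_one]; exact X.xcl_add P orderE6 (hN j h) a a'⟩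
  -- the pairs with the root group of height two
  have htop : ∀ j, (j = 22 ∨ j = 23) → ∀ a b, LComm σ (x j a) (x 19 b) := by
    intro j hj
    have hj24 : j < 24 := by omega
    have hcomm : ∀ a b, Commute (x j a) (x 19 b) := fun a b => by
      have hr : ∀ r ∈ rts j, r < chevE6.nroots := fun r hr => X.cls_lt orderE6 (hN j hj24) r hr
      have hr19 : ∀ r ∈ rts 19, r < chevE6.nroots := fun r hr => X.cls_lt orderE6 (hN 19 (by norm_num)) r hr
      have h := rootClosure_comm certE6C fullCertE6.comm (A := rts j) (B := rts 19) (L := [])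
        (by rcases hj with rfl | rfl
            · rw [r22, r19]; exact c39
            · rw [r23, r19]; exact c46)
        (by simp [chkTerms]) (by simp [chkTerms]) hr hr19 (fun r hr => absurd hr List.not_mem_nil)
        (hmem j hj24 a) (hmem 19 (by norm_num) b)
      rw [rootClosure_nil, Subgroup.mem_bot] at h
      refine Subtype.ext ?_
      exact commutatorElement_eq_one_iff_mul_comm.1 h
    obtain ⟨i, h0, hne⟩ := sep_pairs f hk hf hK h3 p j hj24 19 (by omega)
    exact lcomm_pair hs hc p (x j) (x 19) (X.ftor i) hcomm (hw j hj24 _)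
      (fun a b => X.xcl_add P orderE6 (hN 19 (by norm_num)) a b) (fun a => X.xcl_conj P orderE6 i (hN j hj24) a)
      (fun b => X.xcl_conj P orderE6 i (hN 19 (by norm_num)) b) h0 hne
  have h19 : ∀ a b, LComm σ (x 19 a) (x 19 b) := by
    intro a b A B hA hB
    obtain ⟨t, ht⟩ : ∃ t, (x 19 a : GL chevE6.Idx K) = xg certE6C 47 t := by
      obtain ⟨t, ht⟩ : (x 19 a : GL chevE6.Idx K) ∈ Pset certE6C [47] := r19 ▸ X.xcl_mem_pset P orderE6 (hN 19 (by norm_num)) a
      exact ⟨t 47, by rw [ht]; simp [lprod]⟩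
    have hft : f t = t := by
      have h1 := (x 19 a).2.2
      rw [ht, twSigma_xg certE6C symOKE6_gr f (show 47 < chevE6.nroots by decide), e47, root47, Int.cast_one,
        one_mul] at h1
      exact lprod_inj certE6C fullCertE6.comm (l := [47]) (t := fun _ => f t) (u := fun _ => t) (List.nodup_singleton 47)
        (fun r hr => by simp only [List.mem_singleton] at hr; subst hr; decide)
        (by simpa [lprod] using h1) 47 (List.mem_singleton_self 47)
    let J2 : Fin twE6.norb := ⟨2, by decide⟩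
    let J3 : Fin twE6.norb := ⟨3, by decide⟩
    have hfix : ∀ J, (twE6.orb J).length = 1 → ∀ s : K, f s = s → f^[(twE6.orb J).length] s = s := fun J e s hs => by
      rw [e, Function.iterate_one, hs]
    let U : ↥X.grp := X.phi J2 (SLTwoRel.upr ⟨-t, hfix 2 l2 _ (by rw [map_neg, hft])⟩)
    let V : ↥X.grp := X.phi J3 (SLTwoRel.upr ⟨1, hfix 3 l3 _ (map_one f)⟩)
    have hU : (U : GL chevE6.Idx K) = xg certE6C 39 (-t) := by
      show X.phiGL J2 _ = _
      rw [X.phiGL_upr, show X.tw.base J2 = [39] from b2]; simp [orbEl]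
    have hV : (V : GL chevE6.Idx K) = xg certE6C 46 1 := by
      show X.phiGL J3 _ = _
      rw [X.phiGL_upr, show X.tw.base J3 = [46] from b3]; simp [orbEl]
    obtain ⟨u, hu⟩ := X.pset_xcl P orderE6 (hN 22 (by norm_num)) (g := U)
      (show (U : GL chevE6.Idx K) ∈ Pset certE6C (rts 22) by rw [r22]; exact ⟨fun _ => -t, by simp [hU, lprod]⟩)
    obtain ⟨v, hv⟩ := X.pset_xcl P orderE6 (hN 23 (by norm_num)) (g := V)
      (show (V : GL chevE6.Idx K) ∈ Pset certE6C (rts 23) by rw [r23]; exact ⟨fun _ => 1, by simp [hV, lprod]⟩)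
    have hcomm : x 19 a = ⁅V⁻¹, U⁻¹⁆ := by
      refine Subtype.ext ?_
      rw [ht, commutatorElement_def, Subgroup.coe_mul, Subgroup.coe_mul, Subgroup.coe_mul, inv_inv, inv_inv,
        Subgroup.coe_inv, Subgroup.coe_inv, hU, hV]
      have hform := comm_formula fullCertE6.comm (F := K) (r := 39) (s := 46) (show 39 < chevE6.nroots by decide)
        (show 46 < chevE6.nroots by decide) (by norm_num) (fun e => hne' e.symm) (-t) 1
      rw [ChevalleyDatum.commWord, commTerms_eq certE6C (show 39 < chevE6.nroots by decide)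
        (show 46 < chevE6.nroots by decide), hterms] at hform
      have hu' : xg certE6C 46 (1 : K) * xg certE6C 39 (-t) =
          xg certE6C 39 (-t) * xg certE6C 46 1 * xg certE6C 47 t :=
        Units.ext (by simpa [ChevalleyDatum.wordMat, coe_xg] using hform)
      rw [mul_assoc, hu']
      group
    obtain ⟨Pv, hPv⟩ := hs V
    obtain ⟨Pu, hPu⟩ := hs U
    have c1 : Commute Pv B := htop 23 (Or.inr rfl) v b Pv B (by rw [hPv, hv]) hB
    have c2 : Commute Pu B := htop 22 (Or.inl rfl) u b Pu B (by rw [hPu, hu]) hB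
    have c3 : Commute ⁅Pv⁻¹, Pu⁻¹⁆ B :=
      ((c1.inv_left.mul_left c2.inv_left).mul_left (by rw [inv_inv]; exact c1)).mul_left (by rw [inv_inv]; exact c2)
    have hz : A * ⁅Pv⁻¹, Pu⁻¹⁆⁻¹ ∈ σ.ker := by
      rw [MonoidHom.mem_ker, map_mul, map_inv, map_commutatorElement, map_inv, map_inv, hPv, hPu, hA, hcomm,
        mul_inv_cancel]
    have c4 : Commute (A * ⁅Pv⁻¹, Pu⁻¹⁆⁻¹) B := (mem_center_comm hc hz B).symm
    have c5 := c4.mul_left c3
    rwa [inv_mul_cancel_right] at c5
  intro j hj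
  rcases len_two j hj with hlen | hlong
  · intro a b
    obtain ⟨i, hne⟩ := sep_self f hk hf hK h3 p j hj hlen
    refine lcomm_pair hs hc p (x j) (x j) (X.ftor i) (fun a b => ?_) (hw j hj _)
      (fun a b => X.xcl_add P orderE6 (hN j hj) a b) (fun a => X.xcl_conj P orderE6 i (hN j hj) a)
      (fun a => X.xcl_conj P orderE6 i (hN j hj) a) (X.lamC_ne orderE6 i j) hne a b
    show x j a * x j b = x j b * x j a
    rw [← X.xcl_add P orderE6 (hN j hj), ← X.xcl_add P orderE6 (hN j hj), add_comm]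
  · -- a long class is a conjugate of the one of height two
    have hconv : ∃ g : ↥X.grp, ∀ a, ∃ a', x j a = g * x 19 a' * g⁻¹ := by
      obtain ⟨L, hL, hLbase⟩ : ∃ L : Fin twE6.norb, L.val = (clE6 j).1 ∧
          ∃ N : Fin twE6.norb, (twE6.base L).map (wperm tblE6 (twE6.lw N)) = [47] := by
        rcases hlong with e | e
        · exact ⟨⟨2, by decide⟩, e.symm, ⟨3, by decide⟩, by simp [b2, w39]⟩
        · exact ⟨⟨3, by decide⟩, e.symm, ⟨2, by decide⟩, by simp [b3, w46]⟩
      obtain ⟨N, hN'⟩ := hLbase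
      refine ⟨X.gEl (clE6 j).2 * (X.n N)⁻¹, fun a => ?_⟩
      set m : ↥X.grp := X.phi ⟨(orderE6.cl j).1, (X.comb.class_lt _ (orderE6.mem j (hN j hj))).1⟩
        (SLTwoRel.upr ⟨P.prj _ a, P.mem _ a⟩)
      have h1 : ((X.n N * m * (X.n N)⁻¹ : ↥X.grp) : GL chevE6.Idx K) ∈ Pset certE6C [47] := by
        rw [← hN']
        refine (mono_conj_pset certE6C (twCombE6.lw_word N N.2) (X.n_spec N)
          (fun r hr => twCombE6.base_lt L L.2 r hr)).1 ?_
        have := X.mem_XJ.1 (X.upr_mem_XJ ⟨(orderE6.cl j).1, (X.comb.class_lt _ (orderE6.mem j (hN j hj))).1⟩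
          ⟨P.prj _ a, P.mem _ a⟩)
        rw [hL]
        exact this
      obtain ⟨a', ha'⟩ := X.pset_xcl P orderE6 (hN 19 (by norm_num)) (g := X.n N * m * (X.n N)⁻¹)
        (show _ ∈ Pset certE6C (rts 19) by rw [r19]; exact h1)
      refine ⟨a', ?_⟩
      show X.xcl P orderE6 j a = _
      rw [X.xcl_eq P orderE6 (hN j hj)]
      change X.gEl (clE6 j).2 * m * (X.gEl (clE6 j).2)⁻¹ = _
      rw [show x 19 a' = X.n N * m * (X.n N)⁻¹ from ha'.symm]
      group
    obtain ⟨g, hg⟩ := hconv
    intro a b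
    obtain ⟨a', ha⟩ := hg a
    obtain ⟨b', hb⟩ := hg b
    show LComm σ (x j a) (x j b)
    rw [ha, hb]
    exact lcomm_conj hs (h19 a' b') g

include hf hK h3 in
/-- No stem extension with kernel of the defining characteristic. -/
theorem p_part {p : ℕ} [Fact p.Prime] [CharP K p] {Γ : Type u} [Group Γ] [Finite Γ]
    (σ : Γ →* ↥(e6STw f hk).grp) (hs : Function.Surjective σ) (hc : σ.ker ≤ Subgroup.center Γ)
    (hcard : Nat.card σ.ker = p) : ¬ σ.ker ≤ commutator Γ := by
  let X := e6STw f hk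
  let P := projE6 f hk hf hK h3
  let D := X.chain P orderE6 (sep_moved f hk hf hK h3 p)
  obtain ⟨S, hS⟩ := X.gen.exists_sylowT p
  refine D.not_le hs hc p (self_lcomm f hk hf hK h3 p hs hc) (sep_pairs f hk hf hK h3 p) hcard S ?_
  rw [hS]
  exact X.posT_le_span P orderE6

include hf hK h3 in
/-- The kernel of every stem extension divides `gcd(3, q + 1)`. -/
theorem kernel_dvd {p : ℕ} [hp : Fact p.Prime] [CharP K p] {Γ : Type u} [Group Γ] [Finite Γ]
    (σ : Γ →* ↥(e6STw f hk).grp) (hσ : Cfsg.IsStemExtension σ) : Nat.card σ.ker ∣ Nat.gcd 3 (q + 1) := by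
  refine cross_dvd p f hk hf σ hσ ?_
  refine (Nat.coprime_comm.1 ((Nat.Prime.coprime_iff_not_dvd hp.out).2 fun hd => ?_))
  obtain ⟨hs, hc, hle⟩ := hσ
  obtain ⟨Γ', i1, i2, σ', h1, h2, h4, h5⟩ := exists_prime_quot hs hc hle hp.out hd
  exact p_part f hk hf hK h3 σ' h1 h2 h4 h5

end Cfsg.Lib.Chev.TwMult.E6
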