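import Cfsg.Agent.Lib.Chev.TwMult.Simply.Lifted
import Cfsg.Agent.Lib.Chev.TwMult.PrimeQuot
import Cfsg.Agent.Lib.Chev.TwMult.E6.PPart
import Cfsg.Agent.Lib.Chev.StMultE

/-!
²E₆(q): a stem extension with kernel of order `gcd(3, q + 1)`, and the multiplier.
-/

set_option autoImplicit false
set_option linter.unusedSectionVars false
set_option maxRecDepth 100000
set_option maxHeartbeats 1000000

namespace Cfsg.Lib.Chev.TwMult.E6

open Cfsg.Lie
open scoped commutatorElement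

universe u

variable {K : Type u} [Field K] [Fintype K] {q : ℕ}

theorem orth_chk : ∀ p ∈ [((0 : ℕ), (5 : ℕ)), (2, 4)],
    tblE6.cartan p.1 (tblE6.simp' p.2) = 0 ∧ tblE6.cartan p.2 (tblE6.simp' p.1) = 0 := by
  decide +kernel

theorem orb_chk : ((⟨0, by decide⟩ : Fin twE6.norb).val = 0 ∧ twE6.orb 0 = [0, 5] ∧ twE6.lw 0 = [0, 5]) ∧
    (twE6.orb 1 = [2, 4] ∧ twE6.lw 1 = [2, 4]) := by decide +kernel

/-- A stem extension of ²E₆(q) whose kernel has order divisible by three. -/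
theorem exists_triple (f : K →+* K) (hk : ∀ t, f^[2] t = t) (hf : ∀ t, f t = t ^ q)
    (hK : Fintype.card K = q ^ 2) (h3 : 3 ∣ q + 1) (hperf : commutator ↥(e6STw f hk).grp = ⊤) :
    ∃ (Γ : Type u) (_ : Group Γ) (_ : Finite Γ) (σ : Γ →* ↥(e6STw f hk).grp),
      Cfsg.IsStemExtension σ ∧ 3 ∣ Nat.card σ.ker := by
  classical
  haveI := Fact.mk Nat.prime_three
  have hN : HasNbr chevE6 tblE6 := hasNbr_of_chk certE6C nbrChk_E6
  let Φ := presFam (F := K) certE6C fullCertE6.comm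
    (fun g hg => relsAB_subset hg : chevE6.steinbergRelsAB K ⊆ chevE6.steinbergRels K) subset_rfl
  have hgen : Φ.Gen := presFam_gen _ _ _ _
  have h3q : 3 ∣ q ^ 2 - 1 := by
    rw [show q ^ 2 - 1 = (q + 1) * (q - 1) by rw [← Nat.sq_sub_sq, one_pow]]
    exact h3.mul_right _
  have hcard : Nat.card (Subgroup.center (chevE6.SteinbergGroup K)) = 3 := by
    rw [center_card_E6, hK, Nat.gcd_eq_left h3q]
  haveI := steinbergGroup_finite (F := K) fullCertE6 hN (by rw [hcard]; decide)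
  set W := (e6STw f hk).grp with hW
  have hker : Φ.proj.ker ≤ Subgroup.center (chevE6.SteinbergGroup K) := fun x hx =>
    Φ.ker_projG_le_center fullCertE6 hN hgen (Subtype.ext (MonoidHom.mem_ker.1 hx))
  have hrange : W ≤ Φ.proj.range := fun g hg => by
    obtain ⟨x, hx⟩ := Φ.projG_surjective hgen ⟨g, hg.1⟩
    exact ⟨x, congrArg Subtype.val hx⟩
  obtain ⟨σ, hσ, hval⟩ := stem_of_derived_preimage Φ.proj hker W hrange hperf
  -- a cube root of one
  obtain ⟨w, hw⟩ : ∃ w : Kˣ, orderOf w = 3 := exists_prime_orderOf_dvd_card' 3 (by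
    rw [Nat.card_units, Nat.card_eq_fintype_card, hK]; exact h3q)
  have hw3 : w ^ 3 = 1 := hw ▸ pow_orderOf_eq_one w
  have hfw : Units.map f.toMonoidHom w = w ^ 2 := by
    obtain ⟨m, hm⟩ : ∃ m, q = 3 * m + 2 := ⟨q / 3, by omega⟩
    refine Units.ext ?_
    show f (w : K) = _
    rw [hf, ← Units.val_pow_eq_pow_val, hm, pow_add, pow_mul, hw3, one_pow, one_mul]
  have hw2 : (w ^ 2) ^ 2 = w := by rw [← pow_mul, show 2 * 2 = 3 + 1 from rfl, pow_succ, hw3, one_mul]
  -- a commutator in the preimage for an orbit of two nodes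
  have hpair : ∀ (J : Fin twE6.norb) (i j : ℕ), twE6.orb J = [i, j] → twE6.lw J = [i, j] →
      (i, j) ∈ [((0 : ℕ), (5 : ℕ)), (2, 4)] → ∀ x : Kˣ,
      Φ.hH (tblE6.simp' i) ((x : K) ^ 2) * Φ.hH (tblE6.simp' j) (f x ^ 2) ∈ ⁅W.comap Φ.proj, W.comap Φ.proj⁆ := by
    intro J i j ho hl hij x
    have hi : i < chevE6.rank := twCombE6.orb_lt J J.2 i (by rw [ho]; simp)
    have hj : j < chevE6.rank := twCombE6.orb_lt J J.2 j (by rw [ho]; simp)
    have hr := certE6C.spec.simp_lt i hi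
    have hs := certE6C.spec.simp_lt j hj
    obtain ⟨o1, o2⟩ := orth_chk (i, j) hij
    have hcom : ∀ {a b : ℕ}, a < chevE6.rank → b < chevE6.rank → tblE6.cartan a (tblE6.simp' b) = 0 →
        ∀ (y : Kˣ) (t : K), Commute (hg certE6C (tblE6.simp' a) (y : K)) (xg certE6C (tblE6.simp' b) t) := by
      intro a b ha hb hz y t
      show _ = _
      refine Units.ext ?_
      have hx := scal_mul_x certE6C.spec (extend' (Pi.mulSingle ⟨a, ha⟩ y : Fin chevE6.rank → Kˣ))
        (fun i _ => extend'_ne _ i) (certE6C.spec.simp_lt b hb) t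
      rw [hg_torus certE6C ha, Units.val_mul, Units.val_mul, coe_torusHom, coe_xg, hx]
      rw [show chr tblE6 chevE6 (extend' (Pi.mulSingle ⟨a, ha⟩ y : Fin chevE6.rank → Kˣ)) (tblE6.simp' b) = 1 from
        Finset.prod_eq_one fun k hk' => by
          by_cases hka : k = a
          · subst hka; rw [hz, zpow_zero]
          · rw [show extend' (Pi.mulSingle ⟨a, ha⟩ y : Fin chevE6.rank → Kˣ) k = 1 from by
              simp [extend', Finset.mem_range.1 hk', Pi.mulSingle_apply, Fin.ext_iff, hka], one_zpow], one_mul]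
    have hfx : f (x : K) = ((Units.map f.toMonoidHom x : Kˣ) : K) := rfl
    have e := comm_tor_pair Φ fullCertE6 hN hi hj x.ne_zero ((map_ne_zero f).2 x.ne_zero) fun t =>
      ⟨hcom hi hj o1 x t, by rw [hfx]; exact hcom hj hi o2 _ t,
        by rw [hfx, ← Units.val_pow_eq_pow_val]; exact hcom hj hi o2 _ t⟩
    rw [← e]
    refine Subgroup.commutator_mem_commutator ?_ ?_
    · show Φ.proj _ ∈ W
      have hu : (x : K) ∈ (e6STw f hk).Fd J := by
        show f^[(twE6.orb J).length] (x : K) = x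
        rw [ho]; exact hk _
      have hv := ((e6STw f hk).tor J (Units.mk0 ⟨(x : K), hu⟩ fun h => x.ne_zero (congrArg Subtype.val h))).2
      rw [(e6STw f hk).tor_val] at hv
      refine cast (congrArg (· ∈ W) ?_) hv
      rw [map_mul, Φ.proj_hH hr, Φ.proj_hH hs, hfx, hg_torus certE6C hi, hg_torus certE6C hj, ← map_mul]
      congr 1
      show parFun chevE6 f (twE6.orb J) _ = _
      simp only [ho, parFun, dif_pos hi, dif_pos hj, mul_one]
      congr 2 <;> exact Units.ext rfl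
    · show Φ.proj _ ∈ W
      have hv := ((e6STw f hk).n J).2
      rw [(e6STw f hk).n_val] at hv
      refine cast (congrArg (· ∈ W) ?_) hv
      rw [map_mul, Φ.proj_nH hr, Φ.proj_nH hs]
      show wnu certE6C K (twE6.lw J) = _
      rw [hl, wnu_cons, wnu_cons]
      simp [wnu, nu]
  obtain ⟨⟨-, o0, l0⟩, o1, l1⟩ := orb_chk
  set z := Φ.hH (tblE6.simp' 0) (w : K) * Φ.hH (tblE6.simp' 5) ((w : K) ^ 2) *
    (Φ.hH (tblE6.simp' 2) ((w : K) ^ 2) * Φ.hH (tblE6.simp' 4) (w : K)) with hz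
  have hzΓ : z ∈ ⁅W.comap Φ.proj, W.comap Φ.proj⁆ := by
    have hfv : f (w : K) = (w : K) ^ 2 := by
      rw [← Units.val_pow_eq_pow_val, ← hfw]; rfl
    have hw2' : ((w : K) ^ 2) ^ 2 = w := by rw [← Units.val_pow_eq_pow_val, ← Units.val_pow_eq_pow_val, hw2]
    have a := hpair ⟨0, by decide⟩ 0 5 o0 l0 (by simp) (w ^ 2)
    have b := hpair ⟨1, by decide⟩ 2 4 o1 l1 (by simp) w
    rw [Units.val_pow_eq_pow_val, map_pow, hfv, hw2'] at a
    rw [hfv, hw2'] at b
    exact mul_mem a b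
  let c : Fin chevE6.rank → Kˣ := (![w, 1, w ^ 2, 1, w, w ^ 2] : Fin 6 → Kˣ)
  have hck : c ∈ (torusHom chevE6 tblE6 K).ker := by
    rw [torusHom_ker certE6C, MonoidHom.mem_ker, cartan_lit]
    have h' : ∀ j : Fin 6, ∏ a : Fin 6, (![w, 1, w ^ 2, 1, w, w ^ 2] : Fin 6 → Kˣ) a ^
        (!![2, 0, -1, 0, 0, 0; 0, 2, 0, -1, 0, 0; -1, 0, 2, -1, 0, 0;
          0, -1, -1, 2, -1, 0; 0, 0, 0, -1, 2, -1; 0, 0, 0, 0, -1, 2] : Matrix (Fin 6) (Fin 6) ℤ) j a = 1 := by
      intro j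
      fin_cases j <;> simp [Fin.prod_univ_six, hw2]
      all_goals rw [← mul_inv_rev, ← pow_succ', hw3, inv_one]
    exact funext h'
  have h' : ∀ (n : ℕ) (h : n < chevE6.rank) (v : Kˣ), hg certE6C (tblE6.simp' n) (v : K) =
      torusHom chevE6 tblE6 K (Pi.mulSingle ⟨n, h⟩ v) := fun n h v => hg_torus certE6C h v
  have hpz : Φ.proj z = 1 := by
    rw [hz, map_mul, map_mul, map_mul, Φ.proj_hH (certE6C.spec.simp_lt 0 (by decide)),
      Φ.proj_hH (certE6C.spec.simp_lt 5 (by decide)), Φ.proj_hH (certE6C.spec.simp_lt 2 (by decide)),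
      Φ.proj_hH (certE6C.spec.simp_lt 4 (by decide)), ← Units.val_pow_eq_pow_val, h' 0 (by decide),
      h' 5 (by decide), h' 2 (by decide), h' 4 (by decide), ← map_mul, ← map_mul, ← map_mul,
      ← MonoidHom.mem_ker]
    refine cast (congrArg (· ∈ (torusHom chevE6 tblE6 K).ker) ?_) hck
    have e : ∀ k : Fin 6, (![w, 1, w ^ 2, 1, w, w ^ 2] : Fin 6 → Kˣ) k = ((Pi.mulSingle 0 w * Pi.mulSingle 5 (w ^ 2)) *
        (Pi.mulSingle 2 (w ^ 2) * Pi.mulSingle 4 w) : Fin 6 → Kˣ) k := fun k => by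
      fin_cases k <;> simp [Pi.mulSingle_apply]
    exact funext e
  have hne : z ≠ 1 := fun e => by
    have h1 := congrArg (subHom (F := K) certE6C fullCertE8.comm.cert chkSub_E6 fullCertE8.comm) e
    have hsub : ∀ (n : ℕ) (hn : n < chevE6.rank) (v : Kˣ),
        subHom (F := K) certE6C fullCertE8.comm.cert chkSub_E6 fullCertE8.comm (Φ.hH (tblE6.simp' n) (v : K)) =
          torusHom chevE8 tblE8 K (Pi.mulSingle ⟨n, (sub_simp certE6C fullCertE8.comm.cert chkSub_E6 hn).1⟩ v) := by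
      intro n hn v
      rw [show Φ.hH (tblE6.simp' n) (v : K) = PresentedGroup.mk (chevE6.steinbergRels K)
          (chevE6.stH (tblE6.simp' n) (v : K)) from
        (stH_mk certE6C fullCertE6.comm (fun g hg => relsAB_subset hg) subset_rfl (certE6C.spec.simp_lt n hn) _).symm,
        subHom_mk,
        subGen_stH certE6C fullCertE8.comm.cert chkSub_E6 (certE6C.spec.simp_lt n hn)]
      exact (congrArg (fun r => hg fullCertE8.comm.cert r (v : K))
        (sub_simp certE6C fullCertE8.comm.cert chkSub_E6 hn).2).trans (hg_torus _ _ v)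
    rw [hz, map_mul, map_mul, map_mul, map_one, ← Units.val_pow_eq_pow_val, hsub 0 (by decide), hsub 5 (by decide),
      hsub 2 (by decide), hsub 4 (by decide), ← map_mul, ← map_mul, ← map_mul] at h1
    have h2 := MonoidHom.mem_ker.2 h1
    rw [torusHom_ker fullCertE8.comm.cert] at h2
    have h3 := congrArg (powHom (G := Kˣ) (Matrix.of fun k j => (phiE8.getD k.1 []).getD j.1 0 :
      Matrix (Fin chevE8.rank) (Fin chevE8.rank) ℤ)) (MonoidHom.mem_ker.1 h2)
    rw [← MonoidHom.comp_apply, ← powHom_mul, invCartE8, powHom_one, MonoidHom.id_apply, map_one] at h3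
    have h4 := congrFun h3 ⟨0, by decide⟩
    simp [Pi.mulSingle_apply, Fin.ext_iff] at h4
    rw [h4, orderOf_one] at hw
    exact absurd hw (by decide)
  refine ⟨_, inferInstance, inferInstance, σ, hσ, ?_⟩
  let ι : ↥σ.ker →* ↥(Subgroup.center (chevE6.SteinbergGroup K)) :=
    ((⁅W.comap Φ.proj, W.comap Φ.proj⁆).subtype.comp σ.ker.subtype).codRestrict _ fun x => hker (by
      rw [MonoidHom.mem_ker]
      show Φ.proj ((x.1 : _) : chevE6.SteinbergGroup K) = 1
      rw [← hval, MonoidHom.mem_ker.1 x.2]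
      rfl)
  have hι : Function.Injective ι := fun a b e =>
    Subtype.ext (Subtype.ext (congrArg (fun y : ↥(Subgroup.center (chevE6.SteinbergGroup K)) => (y : chevE6.SteinbergGroup K)) e))
  have hd : Nat.card σ.ker ∣ 3 := hcard ▸ Subgroup.card_dvd_of_injective ι hι
  rcases (Nat.dvd_prime Nat.prime_three).1 hd with h | h
  · exfalso
    haveI := (Nat.card_eq_one_iff_unique.1 h).1
    have hzk : (⟨z, hzΓ⟩ : ↥⁅W.comap Φ.proj, W.comap Φ.proj⁆) ∈ σ.ker :=
      MonoidHom.mem_ker.2 (Subtype.ext (by rw [hval]; exact hpz))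
    exact hne (congrArg (fun y : ↥σ.ker => ((y : ↥⁅W.comap Φ.proj, W.comap Φ.proj⁆) : chevE6.SteinbergGroup K))
      (Subsingleton.elim (⟨_, hzk⟩ : ↥σ.ker) 1))
  · exact h.symm.dvd

/-- The multiplier of ²E₆(q). -/
theorem multiplier (f : K →+* K) (hk : ∀ t, f^[2] t = t) (hf : ∀ t, f t = t ^ q) (hK : Fintype.card K = q ^ 2)
    (h3 : 3 ≤ q) (hperf : commutator ↥(e6STw f hk).grp = ⊤) :
    Cfsg.HasCyclicSchurMultiplier ↥(e6STw f hk).grp (Nat.gcd 3 (q + 1)) := by
  obtain ⟨p, hp⟩ := CharP.exists K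
  haveI := hp
  haveI : Fact p.Prime := ⟨CharP.char_is_prime K p⟩
  refine hasCyclic_of_bound ((Nat.dvd_prime Nat.prime_three).1 (Nat.gcd_dvd_left _ _) |>.imp_right
    fun h => by rw [h]; exact Nat.prime_three) (fun Γ _ _ σ hσ => kernel_dvd f hk hf hK h3 (p := p) σ hσ) ?_
  rcases (Nat.dvd_prime Nat.prime_three).1 (Nat.gcd_dvd_left 3 (q + 1)) with h | h
  · refine ⟨↥(e6STw f hk).grp, inferInstance, inferInstance, MonoidHom.id _, ⟨Function.surjective_id, ?_, ?_⟩,
      by rw [h]; exact one_dvd _⟩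
    · intro x hx; rw [show x = 1 from hx]; exact one_mem _
    · intro x hx; rw [show x = 1 from hx]; exact one_mem _
  · rw [h]
    exact exists_triple f hk hf hK (h ▸ Nat.gcd_dvd_right 3 (q + 1)) hperf

/-- ²E₆(q) is the fixed group of the twisted graph automorphism of the `q`th power map. -/
theorem twistedE6_eq (f : K →+* K) (hk : ∀ t, f^[2] t = t) (hf : ∀ t, f t = t ^ q)
    (hit : ∀ (j : ℕ) (t : K), f^[j] t = t ^ (q ^ j)) : Cfsg.Lie.twistedE6 K q = (e6STw f hk).grp := by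
  have h := twSimplyE6.twOK certE6C symOKE6_gr f fullCertE6 twCombE6
  have hgen := twSimplyE6.fixed_eq_closure certE6C symOKE6_gr f fullCertE6 twCombE6 twLinkedE6 (fun c => hZE6 hk c)
  have heq : Cfsg.Lie.twistedE6 K q = h.fixed certE6C := by
    rw [hgen, Cfsg.Lie.twistedE6, ChevalleyDatum.genSubgroup]
    congr 1
    have b0 : twE6.base 0 = [56, 36] := rfl
    have b1 : twE6.base 1 = [42, 37] := rfl
    have b2 : twE6.base 2 = [39] := rfl
    have b3 : twE6.base 3 = [46] := rfl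
    have n0 : ([56, 36] : List ℕ).map tblE6.neg = [15, 35] := by decide +kernel
    have n1 : ([42, 37] : List ℕ).map tblE6.neg = [29, 34] := by decide +kernel
    have n2 : ([39] : List ℕ).map tblE6.neg = [32] := by decide +kernel
    have n3 : ([46] : List ℕ).map tblE6.neg = [25] := by decide +kernel
    have v2 : ∀ (J : ℕ), J = 2 ∨ J = 3 → ∀ t : K, f^[(twE6.orb J).length] t = t ↔ t ^ q = t := by
      rintro J (rfl | rfl) t
      · rw [show (twE6.orb 2).length = 1 from rfl, hit, pow_one]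
      · rw [show (twE6.orb 3).length = 1 from rfl, hit, pow_one]
    have v0 : ∀ (J : ℕ), J = 0 ∨ J = 1 → ∀ t : K, f^[(twE6.orb J).length] t = t := by
      rintro J (rfl | rfl) t <;> exact hk t
    have hcoe : ∀ (r : ℕ) (t : K), ((orbEl certE6C f [r] t : GL chevE6.Idx K) : Matrix chevE6.Idx chevE6.Idx K) =
        chevE6.wordMat K [(r, t)] := fun r t => by simp [orbEl, ChevalleyDatum.wordMat, coe_xg]
    have hcoe2 : ∀ (r s : ℕ) (t : K), ((orbEl certE6C f [r, s] t : GL chevE6.Idx K) :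
        Matrix chevE6.Idx chevE6.Idx K) = chevE6.wordMat K [(r, t), (s, t ^ q)] := fun r s t => by
      simp [orbEl, ChevalleyDatum.wordMat, coe_xg, hf]
    ext g
    constructor
    · rintro ⟨w, hw, hg⟩
      rcases hw with ⟨t, ht, r, hr, rfl⟩ | ⟨t, rs, hr, rfl⟩
      · simp only [List.mem_cons, List.not_mem_nil, or_false] at hr
        rcases hr with rfl | rfl | rfl | rfl
        · exact ⟨3, by decide, t, (v2 3 (by simp) t).2 ht, Or.inl (Units.ext (by rw [hg, b3, hcoe]; rfl))⟩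
        · exact ⟨3, by decide, t, (v2 3 (by simp) t).2 ht, Or.inr (Units.ext (by rw [hg, b3, n3, hcoe]; rfl))⟩
        · exact ⟨2, by decide, t, (v2 2 (by simp) t).2 ht, Or.inl (Units.ext (by rw [hg, b2, hcoe]; rfl))⟩
        · exact ⟨2, by decide, t, (v2 2 (by simp) t).2 ht, Or.inr (Units.ext (by rw [hg, b2, n2, hcoe]; rfl))⟩
      · simp only [List.mem_cons, List.not_mem_nil, or_false] at hr
        rcases hr with rfl | rfl | rfl | rfl
        · exact ⟨0, by decide, t, v0 0 (by simp) t, Or.inl (Units.ext (by rw [hg, b0, hcoe2]; rfl))⟩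
        · exact ⟨0, by decide, t, v0 0 (by simp) t, Or.inr (Units.ext (by rw [hg, b0, n0, hcoe2]; rfl))⟩
        · exact ⟨1, by decide, t, v0 1 (by simp) t, Or.inl (Units.ext (by rw [hg, b1, hcoe2]; rfl))⟩
        · exact ⟨1, by decide, t, v0 1 (by simp) t, Or.inr (Units.ext (by rw [hg, b1, n1, hcoe2]; rfl))⟩
    · rintro ⟨J, hJ, t, ht, hg⟩
      have : J = 0 ∨ J = 1 ∨ J = 2 ∨ J = 3 := by
        have : J < 4 := hJ
        omega
      rcases this with rfl | rfl | rfl | rfl <;> rcases hg with rfl | rfl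
      · exact ⟨_, Or.inr ⟨t, (e6p1, e6p6), by simp, rfl⟩, by rw [b0, hcoe2]; rfl⟩
      · exact ⟨_, Or.inr ⟨t, (e6m1, e6m6), by simp, rfl⟩, by rw [b0, n0, hcoe2]; rfl⟩
      · exact ⟨_, Or.inr ⟨t, (e6p3, e6p5), by simp, rfl⟩, by rw [b1, hcoe2]; rfl⟩
      · exact ⟨_, Or.inr ⟨t, (e6m3, e6m5), by simp, rfl⟩, by rw [b1, n1, hcoe2]; rfl⟩
      · exact ⟨_, Or.inl ⟨t, (v2 2 (by simp) t).1 ht, e6p4, by simp, rfl⟩, by rw [b2, hcoe]; rfl⟩
      · exact ⟨_, Or.inl ⟨t, (v2 2 (by simp) t).1 ht, e6m4, by simp, rfl⟩, by rw [b2, n2, hcoe]; rfl⟩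
      · exact ⟨_, Or.inl ⟨t, (v2 3 (by simp) t).1 ht, e6p2, by simp, rfl⟩, by rw [b3, hcoe]; rfl⟩
      · exact ⟨_, Or.inl ⟨t, (v2 3 (by simp) t).1 ht, e6m2, by simp, rfl⟩, by rw [b3, n3, hcoe]; rfl⟩
  exact heq

/-- The multiplier of ²E₆(q), as a group given by generators. -/
theorem multiplier_twistedE6 (hq : IsPrimePow q) (hK : Fintype.card K = q ^ 2) (h2 : q ≠ 2) :
    Cfsg.HasCyclicSchurMultiplier ↥(Cfsg.Lie.twistedE6 K q) (Nat.gcd 3 (q + 1)) := by
  have hq3 : 3 ≤ q := by have := hq.two_le; omega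
  obtain ⟨f, hf, hit, hk⟩ := exists_frobQ hq (by norm_num : (2 : ℕ) ≠ 0)
    (show Nat.card K = q ^ 2 by rw [Nat.card_eq_fintype_card]; exact hK)
  obtain ⟨f', h', e', -, -, hperf, -⟩ := twistedE6_facts hq hK
  have e := twistedE6_eq f hk hf hit
  rw [← e'] at hperf
  rw [e] at hperf ⊢
  exact multiplier f hk hf hK hq3 hperf

end Cfsg.Lib.Chev.TwMult.E6
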