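import Cfsg.Agent.Lib.Chev.TwMult.Simply.Cross
import Cfsg.Agent.Lib.Chev.TwE6

/-!
²E₆(q): the part of the multiplier of order prime to the characteristic divides `gcd(3, q + 1)`.
-/

set_option autoImplicit false
set_option linter.unusedSectionVars false
set_option maxRecDepth 100000

namespace Cfsg.Lib.Chev.TwMult.E6

open Cfsg.Lie

universe u

variable {K : Type u} [Field K]

/-- The data of ²E₆(q). -/
noncomputable abbrev e6STw (f : K →+* K) (hk : ∀ t, f^[2] t = t) : STw chevE6 tblE6 K where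
  tw := twE6
  sym := symE6_1
  k := 2
  cert := certE6C
  full := fullCertE6
  sok := symOKE6_gr
  comb := twCombE6
  simply := twSimplyE6
  linked := twLinkedE6
  f := f
  per := hk
  hZ := fun c => hZE6 hk c

theorem sep (f : K →+* K) (hk : ∀ t, f^[2] t = t) : (e6STw f hk).Sep := by
  have h : ∀ J : Fin 4, ∃ k : Fin 6, tblE6.cartan (twE6.head J) (tblE6.simp' k) = -1 ∧
      ∀ i ∈ (twE6.orb J).tail, tblE6.cartan i (tblE6.simp' k) = 0 := by decide +kernel
  exact h

theorem chkCox_twE6 : chkCox tblE6 (fun i : Fin twE6.norb => twE6.lw i)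
    (fun i j => (CoxeterMatrix.F₄ : CoxeterMatrix (Fin twE6.norb)) i j) = true := by
  decide +kernel

/-- The word of a list of orbits. -/
noncomputable def owd (w : List (Fin 4)) : List ℕ :=
  w.flatMap (fun J : Fin 4 => twE6.lw J.val)

/-- The check of an element carrying an orbit to another. -/
abbrev RelChk (w : List (Fin 4)) (a b : Fin 4) : Prop :=
  (∀ r ∈ twE6.base a, wperm tblE6 (owd w) r ∈ twE6.base b) ∧
  (∀ r ∈ twE6.base b, r ∈ (twE6.base a).map (wperm tblE6 (owd w))) ∧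
  ∀ k < 6, wperm tblE6 (twE6.lw b ++ owd w) (tblE6.simp' k) = wperm tblE6 (owd w ++ twE6.lw a) (tblE6.simp' k)

/-- The orders of the products of two reflections. -/
def mF4 (i j : Fin 4) : ℕ := CoxeterMatrix.F₄ i j

theorem rel_table : ∀ i j : Fin 4, i ≠ j →
    (mF4 i j = 2 ∧ RelChk [i] j j) ∨
    (mF4 i j = 3 ∧ RelChk [j, i] j i) ∨
    (mF4 i j = 4 ∧ RelChk [i, j, i] j j) := by
  decide +kernel

theorem rel_hyp (f : K →+* K) (hk : ∀ t, f^[2] t = t) (i j : Fin twE6.norb) (hij : i ≠ j) :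
    ∃ (w : List (Fin twE6.norb)) (a b : Fin twE6.norb),
      (∀ r ∈ twE6.base a, wperm tblE6 ((e6STw f hk).wWord w) r ∈ twE6.base b) ∧
      (∀ r ∈ twE6.base b, r ∈ (twE6.base a).map (wperm tblE6 ((e6STw f hk).wWord w))) ∧
      (∀ k < chevE6.rank, wperm tblE6 (twE6.lw b ++ (e6STw f hk).wWord w) (tblE6.simp' k) =
        wperm tblE6 ((e6STw f hk).wWord w ++ twE6.lw a) (tblE6.simp' k)) ∧
      ∀ {Q : Type u} [Group Q] (x : Fin twE6.norb → Q), (∀ k, x k * x k = 1) →
        (w.map x).prod * x a * ((w.map x).prod)⁻¹ = x b →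
          (x i * x j) ^ (CoxeterMatrix.F₄ : CoxeterMatrix (Fin twE6.norb)) i j = 1 := by
  have hM : (CoxeterMatrix.F₄ : CoxeterMatrix (Fin twE6.norb)) i j = mF4 i j := rfl
  rw [hM]
  rcases rel_table i j hij with ⟨hm, h⟩ | ⟨hm, h⟩ | ⟨hm, h⟩
  · refine ⟨[i], j, j, h.1, h.2.1, h.2.2, fun {Q} _ x hx e => ?_⟩
    have hi : (x i)⁻¹ = x i := inv_eq_of_mul_eq_one_left (hx i)
    simp only [List.map_cons, List.map_nil, List.prod_cons, List.prod_nil, mul_one, hi] at e
    rw [hm, pow_two, ← mul_assoc, e, hx j]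
  · refine ⟨[j, i], j, i, h.1, h.2.1, h.2.2, fun {Q} _ x hx e => ?_⟩
    have hi : (x i)⁻¹ = x i := inv_eq_of_mul_eq_one_left (hx i)
    have hj : (x j)⁻¹ = x j := inv_eq_of_mul_eq_one_left (hx j)
    simp only [List.map_cons, List.map_nil, List.prod_cons, List.prod_nil, mul_one, mul_inv_rev, hi, hj] at e
    rw [hm]
    calc (x i * x j) ^ 3 = x i * (x j * x i * x j * (x i * x j)) := by
          rw [pow_succ, pow_two]; simp only [mul_assoc]
      _ = 1 := by rw [e, hx i]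
  · refine ⟨[i, j, i], j, j, h.1, h.2.1, h.2.2, fun {Q} _ x hx e => ?_⟩
    have hi : (x i)⁻¹ = x i := inv_eq_of_mul_eq_one_left (hx i)
    have hj : (x j)⁻¹ = x j := inv_eq_of_mul_eq_one_left (hx j)
    simp only [List.map_cons, List.map_nil, List.prod_cons, List.prod_nil, mul_one, mul_inv_rev, hi, hj] at e
    rw [hm]
    calc (x i * x j) ^ 4 = x i * (x j * x i) * x j * (x i * x j * x i) * x j := by
          rw [pow_succ, pow_succ, pow_two]; simp only [mul_assoc]
      _ = 1 := by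
        simp only [mul_assoc] at e ⊢
        rw [← hx j]
        conv_rhs => arg 1; rw [← e]
        simp only [mul_assoc]

/-- The Cartan matrix. -/
def litE6 : Matrix (Fin chevE6.rank) (Fin chevE6.rank) ℤ :=
  (!![2, 0, -1, 0, 0, 0; 0, 2, 0, -1, 0, 0; -1, 0, 2, -1, 0, 0;
      0, -1, -1, 2, -1, 0; 0, 0, 0, -1, 2, -1; 0, 0, 0, 0, -1, 2] : Matrix (Fin 6) (Fin 6) ℤ)

theorem cartan_lit : cartanMat chevE6 tblE6 = litE6 := by decide +kernel

theorem powHom_cartan {G : Type*} [CommGroup G] (c : Fin 6 → G)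
    (h : powHom (cartanMat chevE6 tblE6) (c : Fin chevE6.rank → G) = 1) :
    c 0 ^ 2 * (c 2)⁻¹ = 1 ∧ (c 4)⁻¹ * c 5 ^ 2 = 1 ∧
      (c 0)⁻¹ * c 2 ^ 2 * (c 3)⁻¹ = 1 ∧ (c 1)⁻¹ * (c 2)⁻¹ * c 3 ^ 2 * (c 4)⁻¹ = 1 := by
  rw [cartan_lit] at h
  have h' : ∀ j : Fin 6, ∏ a : Fin 6, c a ^ (!![2, 0, -1, 0, 0, 0; 0, 2, 0, -1, 0, 0; -1, 0, 2, -1, 0, 0;
      0, -1, -1, 2, -1, 0; 0, 0, 0, -1, 2, -1; 0, 0, 0, 0, -1, 2] : Matrix (Fin 6) (Fin 6) ℤ) j a = 1 :=
    fun j => congrFun h j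
  have h0 := h' 0
  have h5 := h' 5
  have h2 := h' 2
  have h3 := h' 3
  simp [Fin.prod_univ_six] at h0 h5 h2 h3
  exact ⟨h0, h5, h2, h3⟩

variable [Fintype K] {q : ℕ}

/-- The kernel of the product of the orbit tori. -/
theorem card_torAll_ker (f : K →+* K) (hk : ∀ t, f^[2] t = t) (hf : ∀ t, f t = t ^ q) :
    Nat.card (e6STw f hk).torAll.ker ∣ Nat.gcd 3 (q + 1) := by
  classical
  set X := e6STw f hk with hX
  let ψ : ↥X.torAll.ker →* Kˣ :=
    ((Units.map (X.Fd (⟨0, by decide⟩ : Fin twE6.norb)).subtype.toMonoidHom).comp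
      (Pi.evalMonoidHom (fun J : Fin twE6.norb => (↥(X.Fd J))ˣ) ⟨0, by decide⟩)).comp X.torAll.ker.subtype
  have key : ∀ y : ↥X.torAll.ker, ψ y ^ Nat.gcd 3 (q + 1) = 1 ∧ (ψ y = 1 → y = 1) := by
    intro y
    let u : Fin 4 → Kˣ := fun J => Units.map (X.Fd J).subtype.toMonoidHom (y.1 J)
    set c6 : Fin 6 → Kˣ := ![u 0, u 3, u 1, u 2, Units.map f.toMonoidHom (u 1), Units.map f.toMonoidHom (u 0)] with hc
    let c : Fin chevE6.rank → Kˣ := c6
    have hpar : X.parAll y.1 = c := by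
      show (∏ J : Fin 4, X.par J (y.1 J)) = c
      rw [Fin.prod_univ_four]
      show parFun chevE6 f [0, 5] (u 0) * parFun chevE6 f [2, 4] (u 1) * parFun chevE6 f [3] (u 2) *
        parFun chevE6 f [1] (u 3) = c
      simp only [parFun, dif_pos (show 0 < chevE6.rank by decide), dif_pos (show 1 < chevE6.rank by decide),
        dif_pos (show 2 < chevE6.rank by decide), dif_pos (show 3 < chevE6.rank by decide),
        dif_pos (show 4 < chevE6.rank by decide), dif_pos (show 5 < chevE6.rank by decide), mul_one]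
      have hi : ∀ i : Fin 6, ((Pi.mulSingle 0 (u 0) * Pi.mulSingle 5 (Units.map f.toMonoidHom (u 0))) *
          (Pi.mulSingle 2 (u 1) * Pi.mulSingle 4 (Units.map f.toMonoidHom (u 1))) * Pi.mulSingle 3 (u 2) *
          Pi.mulSingle 1 (u 3) : Fin 6 → Kˣ) i = c6 i := fun i => by
        fin_cases i <;> simp [hc, Pi.mulSingle_apply]
      exact funext hi
    have hker : c ∈ (torusHom chevE6 tblE6 K).ker := by
      rw [MonoidHom.mem_ker, ← hpar]
      show torusHom chevE6 tblE6 K (X.parAll y.1) = 1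
      rw [← X.torAll_val, MonoidHom.mem_ker.1 y.2]
      rfl
    refine ⟨?_, fun h1 => ?_⟩
    · show u 0 ^ Nat.gcd 3 (q + 1) = 1
      have h0' : (0 : ℕ) < chevE6.rank := by decide
      have hp := kerE6_pair hker ⟨0, h0'⟩
      have h3 := kerE6_cube hker ⟨0, h0'⟩
      refine pow_gcd_eq_one.2 ⟨h3, ?_⟩
      have h5 : Units.map f.toMonoidHom (u 0) * u 0 = 1 := by
        rw [show (⟨symE6_1.pI.getD 0 0, symOKE6_gr.node_lt' 0 h0'⟩ : Fin chevE6.rank) = ⟨5, by decide⟩ from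
          Fin.ext (show symE6_1.pI.getD 0 0 = 5 by decide +kernel)] at hp
        exact hp
      rw [pow_succ]
      rwa [show u 0 ^ q = Units.map f.toMonoidHom (u 0) from Units.ext (by simp [hf])]
    · rw [torusHom_ker certE6C, MonoidHom.mem_ker] at hker
      obtain ⟨e0, e5, e2, e3⟩ := powHom_cartan c6 hker
      have u0 : u 0 = 1 := h1
      simp [hc, u0] at e0 e5 e2 e3
      have u1 : u 1 = 1 := e0
      simp [u1] at e2
      have u2 : u 2 = 1 := e2
      simp [u1, u2] at e3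
      have u3 : u 3 = 1 := e3
      refine Subtype.ext (funext fun J => ?_)
      have hall : ∀ J, u J = 1 := fun J => by fin_cases J <;> assumption
      exact Units.ext (Subtype.ext (congrArg Units.val (hall J)))
  let Hg : Subgroup Kˣ := (powMonoidHom (Nat.gcd 3 (q + 1)) : Kˣ →* Kˣ).ker
  let ψ' : ↥X.torAll.ker →* ↥Hg := ψ.codRestrict Hg fun y => (key y).1
  have hinj : Function.Injective ψ' := (injective_iff_map_eq_one _).2 fun y hy =>
    (key y).2 (congrArg Subtype.val hy)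
  refine (Subgroup.card_dvd_of_injective ψ' hinj).trans ?_
  rw [IsCyclic.card_powMonoidHom_ker]
  exact Nat.gcd_dvd_right _ _

/-- The kernel of a stem extension of order prime to the characteristic divides `gcd(3, q + 1)`. -/
theorem cross_dvd (p : ℕ) [Fact p.Prime] [CharP K p] (f : K →+* K) (hk : ∀ t, f^[2] t = t)
    (hf : ∀ t, f t = t ^ q) {Γ : Type u} [Group Γ] [Finite Γ] (σ : Γ →* ↥(e6STw f hk).grp)
    (hσ : Cfsg.IsStemExtension σ) (hcop : (Nat.card σ.ker).Coprime p) :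
    Nat.card σ.ker ∣ Nat.gcd 3 (q + 1) :=
  ((e6STw f hk).cross_dvd p (show 0 < twE6.norb by decide) (CoxeterMatrix.F₄ : CoxeterMatrix (Fin twE6.norb))
    chkCox_twE6 (fun i j hij => rel_hyp f hk i j hij) (sep f hk) σ hσ hcop).trans (card_torAll_ker f hk hf)

end Cfsg.Lib.Chev.TwMult.E6
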