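import Cfsg.Agent.Lib.Chev.TwMult.E6.Cross
import Cfsg.Agent.Lib.Chev.TwMult.Simply.Roots

/-!
The classes of root subgroups of ²E₆(q) by decreasing height, and torus weights separating them for `3 ≤ q`.
-/

set_option autoImplicit false
set_option linter.unusedSectionVars false
set_option maxRecDepth 100000

namespace Cfsg.Lib.Chev.TwMult.E6

open Cfsg.Lie

universe u

/-- The classes by decreasing height. -/
def clE6 (j : ℕ) : ℕ × ℕ :=
  [(2, 174), (2, 118), (2, 74), (1, 160), (2, 42), (1, 107), (2, 21), (1, 66), (2, 8), (2, 24), (1, 37), (2, 10),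
    (1, 17), (1, 18), (2, 2), (1, 6), (1, 12), (1, 1), (1, 3), (3, 3), (0, 0), (1, 0), (2, 0), (3, 0)].getD j (0, 0)

/-- The first roots of the classes. -/
def hdE6 (j : ℕ) : ℕ :=
  [71, 70, 69, 68, 65, 67, 63, 64, 60, 53, 62, 51, 59, 61, 44, 58, 50, 57, 43, 47, 56, 42, 39, 46].getD j 0

theorem hd_eq : ∀ j < 24,
    wperm tblE6 (twE6.eword (clE6 j).2) (tblE6.simp' (twE6.head (clE6 j).1)) = hdE6 j := by decide +kernel

theorem len_two : ∀ j < 24, (twE6.orb (clE6 j).1).length = 2 ∨ (clE6 j).1 = 2 ∨ (clE6 j).1 = 3 := by decide +kernel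

/-- The roots of a class. -/
noncomputable abbrev rts (j : ℕ) : List ℕ := twE6.cls tblE6 (clE6 j)

theorem order_mem : ∀ j < 24, clE6 j ∈ twE6.classes := by decide +kernel
theorem order_nodup : ∀ j ≤ 24, (belowOf rts j).Nodup := by decide +kernel
theorem order_pos : ∀ j ≤ 24, ∀ r ∈ belowOf rts j, 36 ≤ r ∧ r < 72 := by decide +kernel
theorem order_cover : ∀ r < 72, 72 ≤ 2 * r → r ∈ belowOf rts 24 := by decide +kernel
theorem order_backB : ∀ j ≤ 24, chkBack tblE6 (belowOf rts j) = true := by decide +kernel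
theorem order_backR : ∀ j < 24, chkBack tblE6 (rts j) = true := by decide +kernel
theorem order_comm : ∀ j < 24, ∀ k < j, chkTerms tblE6 (rts j) (rts k) (belowOf rts k) = true := by decide +kernel
theorem order_norm : ∀ j < 24, ∀ k ≤ j, chkTerms tblE6 (rts j) (belowOf rts k) (belowOf rts k) = true := by
  decide +kernel
theorem order_stableB : ∀ j ≤ 24, ∀ r ∈ belowOf rts j, twE6.root r ∈ belowOf rts j := by decide +kernel
theorem order_stableR : ∀ j < 24, ∀ r ∈ rts j, twE6.root r ∈ rts j := by decide +kernel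

/-- The ordering of the classes. -/
noncomputable def orderE6 : ClassOrder chevE6 tblE6 twE6 where
  N := 24
  cl := clE6
  mem := order_mem
  nodup := order_nodup
  pos := order_pos
  cover := order_cover
  backB := order_backB
  backR := order_backR
  comm := order_comm
  norm := order_norm
  stableB := order_stableB
  stableR := order_stableR

/-- The parameters of the separating tori. -/
def cands : List (ℤ × ℤ × ℤ × ℤ) :=
  [(-1, 0, 0, 0), (0, -1, 0, 0), (-1, -1, 0, 0), (0, 0, -1, 0), (0, 0, 0, -1), (0, -1, -1, -1)]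

/-- The exponents `(α, β)` of the weight `g ^ (α + q β)`. -/
def ab (P : ℤ × ℤ × ℤ × ℤ) (j : ℕ) : ℤ × ℤ :=
  (P.1 * tblE6.cartan 0 (hdE6 j) + P.2.1 * tblE6.cartan 2 (hdE6 j) + P.2.2.1 * tblE6.cartan 3 (hdE6 j) +
      P.2.2.2 * tblE6.cartan 1 (hdE6 j),
    P.1 * tblE6.cartan 5 (hdE6 j) + P.2.1 * tblE6.cartan 4 (hdE6 j) + P.2.2.1 * tblE6.cartan 3 (hdE6 j) +
      P.2.2.2 * tblE6.cartan 1 (hdE6 j))

/-- Small nonzero exponents. -/
def small (x : ℤ × ℤ) : Bool :=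
  Nat.ble (x.1.natAbs + x.2.natAbs) 3 && Nat.ble x.1.natAbs 2 && Nat.ble x.2.natAbs 2 && (x.1 != 0 || x.2 != 0)

/-- The exponents separate. -/
def sepOne (x y : ℤ × ℤ) : Bool :=
  (x.1 == 0 && x.2 == 0 && small y) || (x.1 + x.2 == 0 && (y.1 + y.2).natAbs == 1)

theorem pairs_ok : ∀ j < 24, ∀ k < j,
    cands.any (fun P => sepOne (ab P j) (ab P k) || sepOne (ab P k) (ab P j)) = true := by decide +kernel

theorem moved_ok : ∀ j < 24,
    cands.any (fun P => small (ab P j) || (ab P j).1.natAbs + (ab P j).2.natAbs == 1) = true := by decide +kernel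

theorem self_ok : ∀ j < 24, (twE6.orb (clE6 j).1).length = 2 →
    cands.any (fun P => (ab P j).1.natAbs + (ab P j).2.natAbs == 1) = true := by decide +kernel

variable {K : Type u} [Field K] (f : K →+* K) (hk : ∀ t, f^[2] t = t) {q : ℕ}

/-- The exponents of the parameters of a torus. -/
def pvec (q : ℕ) (P : ℤ × ℤ × ℤ × ℤ) : ℕ → ℤ
  | 0 => P.1
  | 1 => (1 + q) * P.2.2.2
  | 2 => P.2.1
  | 3 => (1 + q) * P.2.2.1
  | 4 => q * P.2.1
  | _ => q * P.1

theorem map_zpow_f (hf : ∀ t, f t = t ^ q) (g : Kˣ) (x : ℤ) :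
    Units.map f.toMonoidHom (g ^ x) = g ^ ((q : ℤ) * x) := by
  have e : Units.map f.toMonoidHom g = g ^ (q : ℤ) := by
    rw [zpow_natCast]; exact Units.ext (by simp [hf])
  rw [map_zpow, e, ← zpow_mul]

include hk in
theorem pow_qq (hf : ∀ t, f t = t ^ q) (g : Kˣ) (x : ℤ) : g ^ ((q : ℤ) * ((q : ℤ) * x)) = g ^ x := by
  rw [← map_zpow_f f hf, ← map_zpow_f f hf]
  exact Units.ext (hk _)

/-- The fixed parameters of a torus. -/
noncomputable def fpar (hf : ∀ t, f t = t ^ q) (g : Kˣ) (P : ℤ × ℤ × ℤ × ℤ) : (e6STw f hk).FPar :=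
  ⟨fun i => g ^ pvec q P i.val, by
    funext i
    show Units.map f.toMonoidHom (g ^ pvec q P (symE6_1.pI.getD i.val 0)) = g ^ pvec q P i.val
    rw [map_zpow_f f hf]
    have hidx : ∀ j < 6, symE6_1.pI.getD j 0 = [5, 1, 4, 3, 2, 0].getD j 0 := by decide +kernel
    have hi : i.val < 6 := i.2
    rw [hidx _ hi]
    have h := pow_qq f hk hf g
    generalize i.val = n at hi ⊢
    interval_cases n <;> simp only [List.getD_cons_zero, List.getD_cons_succ, pvec]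
    · exact h _
    · rw [show (q : ℤ) * ((1 + (q : ℤ)) * P.2.2.2) = (q : ℤ) * P.2.2.2 + (q : ℤ) * ((q : ℤ) * P.2.2.2) by ring,
        zpow_add, h, ← zpow_add]
      ring_nf
    · exact h _
    · rw [show (q : ℤ) * ((1 + (q : ℤ)) * P.2.2.1) = (q : ℤ) * P.2.2.1 + (q : ℤ) * ((q : ℤ) * P.2.2.1) by ring,
        zpow_add, h, ← zpow_add]
      ring_nf⟩

theorem lamC_eq (hf : ∀ t, f t = t ^ q) (g : Kˣ) (P : ℤ × ℤ × ℤ × ℤ) {j : ℕ} (hj : j < 24) :
    (e6STw f hk).lamC orderE6 (fpar f hk hf g P) j = ((g ^ ((ab P j).1 + (q : ℤ) * (ab P j).2) : Kˣ) : K) := by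
  show chr tblE6 chevE6 (extend' (fun i : Fin chevE6.rank => g ^ pvec q P i.val))
    (wperm tblE6 (twE6.eword (clE6 j).2) (tblE6.simp' (twE6.head (clE6 j).1))) = _
  rw [hd_eq j hj]
  have e : ∀ i < 6, extend' (fun i : Fin chevE6.rank => g ^ pvec q P i.val) i = ((g ^ pvec q P i : Kˣ) : K) := by
    intro i hi
    rw [extend', dif_pos (show i < chevE6.rank from hi)]
  simp only [chr, show chevE6.rank = 6 from rfl, Finset.prod_range_succ, Finset.prod_range_zero, one_mul,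
    e 0 (by norm_num), e 1 (by norm_num), e 2 (by norm_num), e 3 (by norm_num), e 4 (by norm_num), e 5 (by norm_num)]
  rw [← Units.val_zpow_eq_zpow_val, ← Units.val_zpow_eq_zpow_val, ← Units.val_zpow_eq_zpow_val,
    ← Units.val_zpow_eq_zpow_val, ← Units.val_zpow_eq_zpow_val, ← Units.val_zpow_eq_zpow_val, ← Units.val_mul,
    ← Units.val_mul, ← Units.val_mul, ← Units.val_mul, ← Units.val_mul]
  simp only [← zpow_mul, ← zpow_add, pvec, ab]
  congr 2
  ring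

variable [Fintype K] (hf : ∀ t, f t = t ^ q) (hK : Fintype.card K = q ^ 2) (h3 : 3 ≤ q)
include hK h3

theorem small_ne {x : ℤ × ℤ} (h : small x = true) : ¬ ((q : ℤ) ^ 2 - 1) ∣ x.1 + (q : ℤ) * x.2 := by
  obtain ⟨a, b⟩ := x
  simp only [small, Bool.and_eq_true, Bool.or_eq_true, Nat.ble_eq, bne_iff_ne, ne_eq] at h
  obtain ⟨⟨⟨hs, ha⟩, hb⟩, hne⟩ := h
  have h3' : (3 : ℤ) ≤ q := by exact_mod_cast h3
  have hsq : 3 * (q : ℤ) ≤ (q : ℤ) ^ 2 := by rw [sq]; exact mul_le_mul_of_nonneg_right h3' (by omega)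
  intro hd
  have hn : a + (q : ℤ) * b = 0 := by
    refine Int.eq_zero_of_abs_lt_dvd hd (abs_lt.2 ?_)
    have h1 : -2 ≤ b := by omega
    have h2 : b ≤ 2 := by omega
    interval_cases b <;> omega
  have h1 : -2 ≤ b := by omega
  have h2 : b ≤ 2 := by omega
  interval_cases b <;> omega

theorem not_qsub_dvd_one : ¬ ((q : ℤ) - 1) ∣ 1 := fun h => by
  have := Int.le_of_dvd one_pos h
  omega

theorem qsub_dvd : ((q : ℤ) - 1) ∣ (q : ℤ) ^ 2 - 1 := ⟨(q : ℤ) + 1, by ring⟩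

theorem unit_natAbs {x : ℤ} (h : x.natAbs = 1) : x = 1 ∨ x = -1 := by
  have := Int.natAbs_eq x
  omega

theorem exists_gen : ∃ g : Kˣ, ∀ k : ℤ, g ^ k = 1 ↔ ((q : ℤ) ^ 2 - 1) ∣ k := by
  obtain ⟨g, hg⟩ := IsCyclic.exists_ofOrder_eq_natCard (α := Kˣ)
  rw [Nat.card_units, Nat.card_eq_fintype_card, hK] at hg
  refine ⟨g, fun k => ?_⟩
  rw [← orderOf_dvd_iff_zpow_eq_one, hg, Nat.cast_sub (Nat.one_le_pow _ _ (by omega))]
  push_cast
  exact Iff.rfl

variable (p : ℕ) [hp : Fact p.Prime] [CharP K p]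
include hp

theorem exists_exp : ∃ m, q = p ^ m ∧ 1 ≤ m := by
  obtain ⟨n, -, hn⟩ := FiniteField.card K p
  obtain ⟨m, -, hm⟩ := (Nat.dvd_prime_pow hp.out).1 (show q ∣ p ^ (n : ℕ) by rw [← hn, hK]; exact dvd_pow_self _ (by norm_num))
  refine ⟨m, hm, Nat.one_le_iff_ne_zero.2 fun h => ?_⟩
  rw [h, pow_zero] at hm
  omega

include hf

theorem sep_pairs : ∀ j < 24, ∀ k < j, ∃ i, (e6STw f hk).lamC orderE6 i k ≠ 0 ∧
    ∀ e : ℕ, (e6STw f hk).lamC orderE6 i j ^ p ^ e * (e6STw f hk).lamC orderE6 i k ≠ 1 := by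
  obtain ⟨g, hg⟩ := exists_gen (K := K) hK h3
  intro j hj k hkj
  obtain ⟨P, -, hP⟩ := List.any_eq_true.1 (pairs_ok j hj k hkj)
  refine ⟨fpar f hk hf g P, (e6STw f hk).lamC_ne orderE6 _ _, fun e h => ?_⟩
  rw [lamC_eq f hk hf g P hj, lamC_eq f hk hf g P (hkj.trans hj), ← Units.val_pow_eq_pow_val, ← Units.val_mul,
    Units.val_eq_one] at h
  generalize ab P j = x at hP h
  generalize ab P k = y at hP h
  have h' : ((q : ℤ) ^ 2 - 1) ∣ (x.1 + (q : ℤ) * x.2) * (p : ℤ) ^ e + (y.1 + (q : ℤ) * y.2) := by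
    rw [← hg, zpow_add, zpow_mul, show (p : ℤ) ^ e = ((p ^ e : ℕ) : ℤ) by push_cast; rfl, zpow_natCast]
    exact h
  have hcop : IsCoprime ((q : ℤ) - 1) ((p : ℤ) ^ e) := by
    obtain ⟨m, hm, h1⟩ := exists_exp (K := K) hK h3 p
    have hq : IsCoprime ((q : ℤ) - 1) (q : ℤ) := ⟨-1, 1, by ring⟩
    rw [hm, Nat.cast_pow] at hq ⊢
    exact ((IsCoprime.pow_right_iff (by omega : 0 < m)).1 hq).pow_right
  have key : ((q : ℤ) - 1) ∣ (x.1 + x.2) * (p : ℤ) ^ e + (y.1 + y.2) := by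
    have h2 := (qsub_dvd (K := K) hK h3).trans h'
    have h4 : ((q : ℤ) - 1) ∣ x.2 * ((q : ℤ) - 1) * (p : ℤ) ^ e + y.2 * ((q : ℤ) - 1) :=
      dvd_add ((dvd_mul_left _ _).mul_right _) (dvd_mul_left _ _)
    have h5 := dvd_sub h2 h4
    rwa [show (x.1 + (q : ℤ) * x.2) * (p : ℤ) ^ e + (y.1 + (q : ℤ) * y.2) -
      (x.2 * ((q : ℤ) - 1) * (p : ℤ) ^ e + y.2 * ((q : ℤ) - 1)) = (x.1 + x.2) * (p : ℤ) ^ e + (y.1 + y.2) by ring] at h5
  simp only [sepOne, Bool.and_eq_true, Bool.or_eq_true, beq_iff_eq] at hP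
  rcases hP with (⟨⟨ha, hb⟩, hs⟩ | ⟨ha, hs⟩) | (⟨⟨ha, hb⟩, hs⟩ | ⟨ha, hs⟩)
  · rw [ha, hb] at h'
    exact small_ne (K := K) hK h3 hs (by simpa using h')
  · rw [ha, zero_mul, zero_add] at key
    rcases unit_natAbs (K := K) hK h3 hs with e1 | e1 <;> rw [e1] at key
    · exact not_qsub_dvd_one (K := K) hK h3 key
    · exact not_qsub_dvd_one (K := K) hK h3 (dvd_neg.1 key)
  · -- the higher weight is nontrivial and a Frobenius power keeps it so
    rw [ha, hb] at h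
    simp only [mul_zero, add_zero, zpow_zero, mul_one] at h
    have h1 : ((g ^ (x.1 + (q : ℤ) * x.2) : Kˣ) : K) ^ p ^ e = 1 := by rw [← Units.val_pow_eq_pow_val, h, Units.val_one]
    have h2 : ((g ^ (x.1 + (q : ℤ) * x.2) : Kˣ) : K) = 1 := by
      refine sub_eq_zero.1 (pow_eq_zero_iff (pow_ne_zero e hp.out.ne_zero) |>.1 ?_)
      rw [sub_pow_char_pow, h1, one_pow, sub_self]
    exact small_ne (K := K) hK h3 hs ((hg _).1 (Units.val_eq_one.1 h2))
  · rw [ha, add_zero] at key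
    have h1 := hcop.dvd_of_dvd_mul_right key
    rcases unit_natAbs (K := K) hK h3 hs with e1 | e1 <;> rw [e1] at h1
    · exact not_qsub_dvd_one (K := K) hK h3 h1
    · exact not_qsub_dvd_one (K := K) hK h3 (dvd_neg.1 h1)

theorem sep_self : ∀ j < 24, (twE6.orb (clE6 j).1).length = 2 → ∃ i,
    ∀ e : ℕ, (e6STw f hk).lamC orderE6 i j ^ p ^ e * (e6STw f hk).lamC orderE6 i j ≠ 1 := by
  obtain ⟨g, hg⟩ := exists_gen (K := K) hK h3
  intro j hj hlen
  obtain ⟨P, -, hP⟩ := List.any_eq_true.1 (self_ok j hj hlen)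
  refine ⟨fpar f hk hf g P, fun e h => ?_⟩
  rw [lamC_eq f hk hf g P hj, ← Units.val_pow_eq_pow_val, ← Units.val_mul, Units.val_eq_one] at h
  simp only [beq_iff_eq] at hP
  generalize ab P j = x at hP h
  have h' : g ^ ((x.1 + (q : ℤ) * x.2) * ((p ^ e + 1 : ℕ) : ℤ)) = 1 := by
    rw [zpow_mul, zpow_natCast, pow_succ, h]
  have h1 : g ^ ((p ^ e + 1 : ℕ) : ℤ) = 1 := by
    generalize ((p ^ e + 1 : ℕ) : ℤ) = n at h' ⊢
    obtain ⟨a, b⟩ := x
    have hcases : (a = 1 ∧ b = 0) ∨ (a = -1 ∧ b = 0) ∨ (a = 0 ∧ b = 1) ∨ (a = 0 ∧ b = -1) := by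
      simp only at hP
      omega
    rcases hcases with ⟨rfl, rfl⟩ | ⟨rfl, rfl⟩ | ⟨rfl, rfl⟩ | ⟨rfl, rfl⟩
    · simpa using h'
    · simpa using h'
    · rw [← pow_qq f hk hf g n, ← map_zpow_f f hf]
      rw [zero_add, mul_one] at h'
      rw [h', map_one]
    · rw [← pow_qq f hk hf g n, ← map_zpow_f f hf]
      rw [zero_add, mul_neg, mul_one, neg_mul, zpow_neg, inv_eq_one] at h'
      rw [h', map_one]
  rw [hg] at h1
  obtain ⟨m, hm, hm1⟩ := exists_exp (K := K) hK h3 p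
  have hN : ((q ^ 2 - 1 : ℕ) : ℤ) = (q : ℤ) ^ 2 - 1 := by
    rw [Nat.cast_sub (Nat.one_le_pow _ _ (by omega))]; push_cast; rfl
  rw [← hN, Int.natCast_dvd_natCast, hm, ← pow_mul] at h1
  obtain ⟨n, hn⟩ : ∃ n, m * 2 = n + 1 := ⟨m * 2 - 1, by omega⟩
  rw [hn] at h1
  set N := p ^ (n + 1) - 1 with hNdef
  have hpos : 1 ≤ p ^ (n + 1) := Nat.one_le_pow _ _ hp.out.pos
  have hmod : p ^ (n + 1) ≡ 1 [MOD N] := by
    rw [show p ^ (n + 1) = N + 1 by omega]
    exact Nat.add_modEq_left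
  have hr : p ^ e ≡ p ^ (e % (n + 1)) [MOD N] := by
    conv_lhs => rw [← Nat.mod_add_div e (n + 1), pow_add, pow_mul]
    simpa using (Nat.ModEq.refl (p ^ (e % (n + 1)))).mul (hmod.pow (e / (n + 1)))
  have hd : N ∣ p ^ (e % (n + 1)) + 1 := ((hr.add_right 1).dvd_iff dvd_rfl).1 h1
  have hle := Nat.le_of_dvd (Nat.succ_pos _) hd
  have h2 : p ^ (e % (n + 1)) ≤ p ^ n :=
    Nat.pow_le_pow_right hp.out.pos (Nat.lt_succ_iff.1 (Nat.mod_lt _ (Nat.succ_pos n)))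
  have h4 : p * p ^ n = p ^ (n + 1) := (pow_succ' p n).symm
  have h5 : 2 * p ^ n ≤ p * p ^ n := Nat.mul_le_mul_right _ hp.out.two_le
  have h6 : 9 ≤ p ^ (n + 1) := by
    rw [← hn, pow_mul, ← hm]
    exact le_trans (by norm_num) (Nat.pow_le_pow_left h3 2)
  omega

theorem sep_moved : ∀ j < 24, ∃ i, (e6STw f hk).lamC orderE6 i j ≠ 1 := by
  obtain ⟨g, hg⟩ := exists_gen (K := K) hK h3
  intro j hj
  obtain ⟨P, -, hP⟩ := List.any_eq_true.1 (moved_ok j hj)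
  refine ⟨fpar f hk hf g P, fun h => ?_⟩
  rw [lamC_eq f hk hf g P hj, Units.val_eq_one, hg] at h
  generalize ab P j = x at hP h
  rw [Bool.or_eq_true] at hP
  refine small_ne (K := K) hK h3 (hP.elim id fun h1 => ?_) h
  simp only [beq_iff_eq] at h1
  simp only [small, Bool.and_eq_true, Bool.or_eq_true, Nat.ble_eq, bne_iff_ne, ne_eq]
  refine ⟨⟨⟨?_, ?_⟩, ?_⟩, ?_⟩ <;> omega

end Cfsg.Lib.Chev.TwMult.E6
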